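import Groth.Agent.RedLR.Unip
import Groth.Agent.Chev.RedCentre
import Groth.Agent.MTSub.Basic
import Groth.Agent.ParNorm.Global
import Groth.Agent.GrpField.Kernel
import Groth.Agent.MTImage.ToriConj
import Groth.Agent.MTImage.Cartan
import Groth.Agent.Chev.TorusBasic

/-!
# Multiplicative type meets unipotent trivially
-/

set_option autoImplicit false
set_option linter.style.haveILetI false
set_option backward.isDefEq.respectTransparency false
set_option maxHeartbeats 1000000
set_option synthInstance.maxHeartbeats 400000

universe u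

open CategoryTheory CategoryTheory.Limits MonoidalCategory CartesianMonoidalCategory MonObj GrpObj AlgebraicGeometry

noncomputable section

namespace Groth.Agent.UnipTor

/-- A homomorphism from a group of multiplicative type to a smooth connected group without subtori is trivial. -/
theorem eq_one_of_hasNoSubtorus {k : Type u} [Field k] [IsAlgClosed k] {U H : Over (Spec (CommRingCat.of k))}
    [GrpObj U] [GrpObj H] [IsAffine U.left] [Smooth U.hom] [ConnectedSpace U.left] (hU : Red.HasNoSubtorus k U)
    (hH : SGA3x.IsMultTypeFT H) (u : H ⟶ U) [IsMonHom u] : u = 1 := by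
  obtain ⟨A, _, e, he⟩ := FinHopf.exists_hopf (R := CommRingCat.of k) U
  haveI := he
  haveI : IsIso e.hom.left := inferInstanceAs (IsIso ((Over.forget _).map e.hom))
  haveI : Algebra.FiniteType k A := by
    have h0 : LocallyOfFiniteType (e.hom.left ≫ U.hom) := inferInstance
    rw [Over.w e.hom] at h0
    exact RingHom.finiteType_algebraMap.1 ((HasRingHomProperty.Spec_iff (P := @LocallyOfFiniteType)).1 h0)
  haveI : _root_.IsReduced A := by
    haveI : IsReduced U.left := SmoothRed.isReduced_of_smooth_scheme U.hom
    haveI : IsReduced (Spec (CommRingCat.of A)) := isReduced_of_isOpenImmersion e.hom.left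
    exact (affine_isReduced_iff (CommRingCat.of A)).mp inferInstance
  have hA := RedLR.isUnipotent_of_hasNoSubtorus e hU
  haveI : IsMonHom e.inv := inferInstance
  let v : H ⟶ (MTBridge.specGrp k A).X := u ≫ e.inv
  have h := Chev.RedCentre.eq_one_unipotent hA (𝟙 _) (Red.bc (𝟙 _) H) (MTBridge.isMultTypeFT_bc H (𝟙 _) hH)
    ((Over.pullback (𝟙 (Spec (CommRingCat.of k)))).map v)
  have hv : v = 1 := by
    apply (Over.pullback (𝟙 (Spec (CommRingCat.of k)))).map_injective
    rw [h, Functor.map_one]
  calc u = v ≫ e.hom := by simp [v]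
    _ = 1 := by rw [hv, MonObj.one_comp]

variable {S : Scheme.{u}} {G T U : Over S} [GrpObj G] [GrpObj T] [GrpObj U]

/-- Immersions into locally noetherian schemes are quasi-compact. -/
theorem quasiCompact_of_immersion {X Y : Scheme.{u}} (f : X ⟶ Y) [IsImmersion f] [IsLocallyNoetherian Y] :
    QuasiCompact f := by
  rw [← f.liftCoborder_ι]
  infer_instance

/-- A torus meets a subgroup with unipotent geometric fibres trivially. -/
theorem fst_eq_one [IsAffineHom G.hom] [Smooth G.hom] (i : T ⟶ G) [IsMonHom i] [Mono i] (hT : Red.IsTorus T)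
    (j : U ⟶ G) [IsMonHom j] [IsImmersion j.left] [Smooth U.hom]
    (hfib : ∀ s : S, ConnectedSpace ↥(Red.geomFibre s U).left ∧
      Red.HasNoSubtorus (AlgebraicClosure (S.residueField s)) (Red.geomFibre s U)) :
    pullback.fst j i = 1 := by
  haveI : Mono j := (Over.forget _).mono_of_mono_map (show Mono j.left from inferInstance)
  let I := pullback j i
  let p : I ⟶ U := pullback.fst j i
  let q : I ⟶ T := pullback.snd j i
  haveI : Mono p := inferInstance
  obtain ⟨hIg, hpm⟩ := MTBridge.exists_grpObj_of_div p
    ⟨pullback.lift η[U] η[T] (by rw [IsMonHom.one_hom, IsMonHom.one_hom]), pullback.lift_fst _ _ _⟩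
    (fun X k₁ k₂ => ⟨pullback.lift ((k₁ ≫ p)⁻¹ * (k₂ ≫ p)) ((k₁ ≫ q)⁻¹ * (k₂ ≫ q)) (by
      simp only [MonObj.mul_comp, GrpObj.inv_comp, Category.assoc, p, q, pullback.condition]),
      pullback.lift_fst _ _ _⟩)
  haveI : IsMonHom q := MTSplit.isMonHom_of_comp_mono q i (p ≫ j) pullback.condition.symm
  haveI : Mono q := inferInstance
  have hTlft := MTBridge.locallyOfFinitePresentation_of_isMultTypeFT T (MTBridge.isMultTypeFT_of_isTorus T hT)
  haveI := hTlft
  have hsq : IsPullback p.left q.left j.left i.left :=
    (IsPullback.of_hasPullback j i).map (Over.forget S)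
  haveI : IsImmersion q.left := MorphismProperty.of_isPullback (P := @IsImmersion) hsq inferInstance
  haveI : LocallyOfFiniteType I.hom := by rw [← Over.w q]; infer_instance
  let e : 𝟙_ (Over S) ⟶ I := η[I]
  haveI : LocallyOfFinitePresentation (𝟙_ (Over S)).hom := inferInstanceAs (LocallyOfFinitePresentation (𝟙 S))
  haveI : Flat (𝟙_ (Over S)).hom := inferInstanceAs (Flat (𝟙 S))
  haveI : IsIso e := ParNorm.isIso_of_geomPts e fun t => by
    let F := Over.pullback (Red.geomPt t)
    haveI : PreservesLimitsOfShape WalkingCospan F :=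
      (Adjunction.rightAdjoint_preservesLimits (Over.mapPullbackAdj (Red.geomPt t))).preservesLimitsOfShape
    let K := AlgebraicClosure (S.residueField t)
    let qK : Red.bc (Red.geomPt t) I ⟶ Red.bc (Red.geomPt t) T := F.map q
    let pK : Red.bc (Red.geomPt t) I ⟶ Red.geomFibre t U := F.map p
    haveI : Mono pK := inferInstanceAs (Mono (F.map p))
    haveI : Mono qK := inferInstanceAs (Mono (F.map q))
    haveI : IsMonHom pK := inferInstanceAs (IsMonHom (F.map p))
    haveI : IsMonHom qK := inferInstanceAs (IsMonHom (F.map q))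
    haveI : Smooth (Red.geomFibre t U).hom := inferInstanceAs (Smooth (pullback.snd U.hom _))
    haveI : LocallyOfFiniteType (Red.bc (Red.geomPt t) I).hom := inferInstanceAs (LocallyOfFiniteType (pullback.snd I.hom _))
    haveI : LocallyOfFiniteType (Red.bc (Red.geomPt t) T).hom := inferInstanceAs (LocallyOfFiniteType (pullback.snd T.hom _))
    haveI : Subsingleton ↥(Spec (CommRingCat.of K)) := inferInstanceAs (Subsingleton (PrimeSpectrum K))
    haveI : Nonempty ↥(Spec (CommRingCat.of K)) := inferInstanceAs (Nonempty (PrimeSpectrum K))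
    haveI := (hfib t).1
    haveI : IsImmersion qK.left :=
      MorphismProperty.of_isPullback (P := @IsImmersion) (MTImage.isPullback_map q _) ‹IsImmersion q.left›
    haveI : IsAffine (Red.bc (Red.geomPt t) T).left := Chev.isAffine_of_isTorus (Chev.Borel.isTorus_bc_scheme T _ hT)
    haveI : IsLocallyNoetherian (Red.bc (Red.geomPt t) T).left :=
      LocallyOfFiniteType.isLocallyNoetherian (Red.bc (Red.geomPt t) T).hom
    haveI : QuasiCompact qK.left := quasiCompact_of_immersion qK.left
    haveI : IsClosedImmersion qK.left := GrpField.isClosedImmersion_of_mono qK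
    haveI : IsAffine (Red.bc (Red.geomPt t) I).left := isAffine_of_isAffineHom qK.left
    haveI : Flat (Red.bc (Red.geomPt t) I).hom := inferInstance
    haveI : LocallyOfFinitePresentation (Red.bc (Red.geomPt t) I).hom := inferInstance
    have hIm : SGA3x.IsMultTypeFT (Red.bc (Red.geomPt t) I) := MTSub.isMultTypeFT_of_closed _ _
      (MTBridge.isMultTypeFT_bc T _ (MTBridge.isMultTypeFT_of_isTorus T hT)) qK
    haveI : IsImmersion (F.map j).left :=
      MorphismProperty.of_isPullback (P := @IsImmersion) (MTImage.isPullback_map j _) ‹IsImmersion j.left›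
    haveI : IsAffine (Red.geomFibre t U).left := by
      haveI : IsAffineHom (Red.geomFibre t G).hom := inferInstanceAs (IsAffineHom (pullback.snd G.hom _))
      haveI : IsAffine (Red.geomFibre t G).left := isAffine_of_isAffineHom (Red.geomFibre t G).hom
      haveI : Smooth (Red.geomFibre t G).hom := inferInstanceAs (Smooth (pullback.snd G.hom _))
      haveI : IsLocallyNoetherian (Red.geomFibre t G).left :=
        LocallyOfFiniteType.isLocallyNoetherian (Red.geomFibre t G).hom
      let jK : Red.geomFibre t U ⟶ Red.geomFibre t G := F.map j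
      haveI : IsImmersion jK.left := ‹IsImmersion (F.map j).left›
      haveI : IsMonHom jK := inferInstanceAs (IsMonHom (F.map j))
      haveI : Mono jK := inferInstanceAs (Mono (F.map j))
      haveI : QuasiCompact jK.left := quasiCompact_of_immersion jK.left
      haveI : IsClosedImmersion jK.left := GrpField.isClosedImmersion_of_mono jK
      exact isAffine_of_isAffineHom jK.left
    have hp1 : pK = 1 := eq_one_of_hasNoSubtorus (hfib t).2 hIm pK
    refine ⟨⟨toUnit _ ≫ (Functor.Monoidal.εIso F).hom, ?_, ?_⟩⟩
    · exact (isTerminalTensorUnit.isTerminalObj F _).hom_ext _ _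
    · rw [← cancel_mono (F.map p)]
      show ((toUnit _ ≫ (Functor.Monoidal.εIso F).hom) ≫ F.map e) ≫ F.map p = 𝟙 _ ≫ pK
      rw [Category.id_comp, hp1, Category.assoc, ← Functor.map_comp, show e ≫ p = η[U] from IsMonHom.one_hom (f := p)]
      rfl
  rw [← cancel_epi e, MonObj.comp_one, show e ≫ pullback.fst j i = η[U] from IsMonHom.one_hom (f := p)]
  rw [Hom.one_def, toUnit_unique (toUnit (𝟙_ (Over S))) (𝟙 _), Category.id_comp]

end Groth.Agent.UnipTor
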